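import Cfsg.Agent.OrdDiv.Main

/-!
# The defining-characteristic part of the orders of the classical groups (helper321)

`q ^ e` divides the order of the group.
-/

set_option autoImplicit false

namespace Cfsg.Agent.H321.Orders

open Cfsg Cfsg.Agent.OrdDiv

theorem dvd_of {q e d c n : ℕ} (hcop : d.Coprime q) (h : d * c = n) (hn : q ^ e ∣ n) : q ^ e ∣ c := by
  rw [← h] at hn
  exact Nat.Coprime.dvd_of_dvd_mul_left (Nat.Coprime.pow_left _ hcop.symm) hn

/-- the order equation of `PSL_n(q)` -/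
theorem psl_eq {F : Type} [Field F] [Fintype F] {n : ℕ} (hn : 2 ≤ n) :
    fPSL.den n (Fintype.card F) * Nat.card (Matrix.ProjectiveSpecialLinearGroup (Fin n) F) =
      glN n (Fintype.card F) := by
  have h := S0243.result (F := F) rfl n hn
  rw [Fin.prod_univ_eq_prod_range (fun i => Fintype.card F ^ n - Fintype.card F ^ i) n, ← prod_list] at h
  change Nat.gcd n (Fintype.card F - 1) * (Fintype.card F - 1) * _ = glN n (Fintype.card F)
  rw [mul_assoc]
  exact h

theorem psl_cop {q n : ℕ} (hq : 1 < q) : (fPSL.den n q).Coprime q := by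
  change (Nat.gcd n (q - 1) * (q - 1)).Coprime q
  have h1 := cop_sub (q := q) (k := 1) (by omega) le_rfl
  rw [pow_one] at h1
  exact Nat.Coprime.mul_left (Nat.Coprime.coprime_dvd_left (Nat.gcd_dvd_right _ _) h1) h1

theorem psl_dvd {F : Type} [Field F] [Fintype F] {n : ℕ} (hn : 2 ≤ n) :
    Fintype.card F ^ (n * (n - 1) / 2) ∣ Nat.card (Matrix.ProjectiveSpecialLinearGroup (Fin n) F) :=
  dvd_of (psl_cop Fintype.one_lt_card) (psl_eq hn) (pow_dvd_glN n _)

/-- the order equation of `PSp_2m(q)` -/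
theorem psp_eq {F : Type} [Field F] [Fintype F] {m : ℕ} (hm : 1 ≤ m) :
    Nat.gcd 2 (Fintype.card F - 1) * Nat.card (PSp m F) = Fintype.card F ^ (m ^ 2) * prB (Fintype.card F) m := by
  have h1 := S0245.result (F := F) rfl m
  have h2 := S0246.result (F := F) rfl m (by omega)
  have h3 := Subgroup.card_eq_card_quotient_mul_card_subgroup
    (Subgroup.center (Matrix.symplecticGroup (Fin m) F))
  rw [← prod_list (fun i => Fintype.card F ^ (2 * (i + 1)) - 1)] at h1
  rw [h1, h2] at h3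
  rw [mul_comm]
  exact h3.symm

theorem psp_dvd {F : Type} [Field F] [Fintype F] {m : ℕ} (hm : 1 ≤ m) :
    Fintype.card F ^ (m ^ 2) ∣ Nat.card (PSp m F) := by
  refine dvd_of ?_ (psp_eq hm) (Dvd.intro _ rfl)
  have h1 := cop_sub (q := Fintype.card F) (k := 1) Fintype.card_pos le_rfl
  rw [pow_one] at h1
  exact Nat.Coprime.coprime_dvd_left (Nat.gcd_dvd_right _ _) h1

theorem prU_eq (q n : ℕ) :
    prU q n = ∏ i ∈ Finset.range n, (if Even i then q ^ (i + 1) + 1 else q ^ (i + 1) - 1) := by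
  rw [← prod_list (fun i => if Even i then q ^ (i + 1) + 1 else q ^ (i + 1) - 1)]
  unfold prU
  congr 1
  apply List.map_congr_left
  intro i _
  by_cases h : Even i
  · rw [if_pos h, if_pos]
    rw [Nat.beq_eq]
    exact Nat.even_iff.1 h
  · rw [if_neg h, if_neg]
    rw [Nat.beq_eq, ← Nat.even_iff]
    exact h

/-- the order equation of `PSU_n(q)` -/
theorem psu_eq {F : Type} [Field F] [Fintype F] {n q : ℕ} (hF : Fintype.card F = q ^ 2) (hn : 2 ≤ n) :
    Nat.gcd n (q + 1) * (q + 1) * Nat.card (PSU n F q) = q ^ (n * (n - 1) / 2) * prU q n := by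
  have h := S0280.result hF n hn
  rw [← prU_eq, ← mul_assoc] at h
  exact h

theorem psu_dvd {F : Type} [Field F] [Fintype F] {n q : ℕ} (hF : Fintype.card F = q ^ 2) (hn : 2 ≤ n) :
    q ^ (n * (n - 1) / 2) ∣ Nat.card (PSU n F q) := by
  refine dvd_of ?_ (psu_eq hF hn) (Dvd.intro _ rfl)
  have h1 := cop_add (q := q) (k := 1) le_rfl
  rw [pow_one] at h1
  exact Nat.Coprime.mul_left (Nat.Coprime.coprime_dvd_left (Nat.gcd_dvd_right _ _) h1) h1

theorem oodd_dvd {F : Type} [Field F] [Fintype F] {m : ℕ} (hm : 3 ≤ m) (ho : Odd (Fintype.card F)) :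
    Fintype.card F ^ (m ^ 2) ∣ Nat.card (POmega F (quadFormOdd m F)) := by
  have h := S0292.result (F := F) rfl ho m hm
  exact dvd_of ((Nat.coprime_two_left).2 ho) h (Dvd.intro _ rfl)

theorem oplus_dvd {F : Type} [Field F] [Fintype F] {m : ℕ} (hm : 4 ≤ m) :
    Fintype.card F ^ (m * (m - 1)) ∣ Nat.card (POmega F (quadFormPlus m F)) := by
  have h := S0293.result (F := F) rfl m hm
  rw [mul_assoc] at h
  refine dvd_of ?_ h (Dvd.intro _ rfl)
  exact Nat.Coprime.coprime_dvd_left (Nat.gcd_dvd_right _ _) (cop_sub Fintype.card_pos (by omega))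

theorem ominus_dvd {F : Type} [Field F] [Fintype F] {m : ℕ} (hm : 4 ≤ m) {a b : F}
    (hab : ∀ z₁ z₂ : F, z₁ ^ 2 + a * z₁ * z₂ + b * z₂ ^ 2 = 0 → z₁ = 0 ∧ z₂ = 0) :
    Fintype.card F ^ (m * (m - 1)) ∣ Nat.card (POmega F (quadFormMinus (m - 1) F a b)) := by
  have h := S0294.result (F := F) rfl m hm a b hab
  rw [mul_assoc] at h
  refine dvd_of ?_ h (Dvd.intro _ rfl)
  exact Nat.Coprime.coprime_dvd_left (Nat.gcd_dvd_right _ _) (cop_add (by omega))

/-- `q ^ e` divides `c` for a prime power `q`: some `p ^ k` with `k ≥ e` does -/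
theorem exists_prime {q e c : ℕ} (hq : IsPrimePow q) (h : q ^ e ∣ c) : ∃ p : ℕ, p.Prime ∧ p ^ e ∣ c := by
  obtain ⟨p, k, hp, hk, rfl⟩ := (isPrimePow_nat_iff q).1 hq
  refine ⟨p, hp, (pow_dvd_pow_of_dvd (dvd_pow_self p (by omega)) e).trans h⟩

end Cfsg.Agent.H321.Orders
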