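import Cfsg.Agent.H321.Chain

/-!
# Chains of subgroups of the alternating groups (helper321)
-/

set_option autoImplicit false

namespace Cfsg.Agent.H321.Alt

open Subgroup Equiv Cfsg.Agent.H321.Chain

/-- `A_m` is a subgroup of `A_n` for `m ≤ n` -/
theorem exists_inj {m n : ℕ} (h : m ≤ n) :
    ∃ f : alternatingGroup (Fin m) →* alternatingGroup (Fin n), Function.Injective f := by
  let ι : Fin m ↪ Fin n := Fin.castLEEmb h
  let φ : Perm (Fin m) →* Perm (Fin n) := Perm.extendDomainHom (Equiv.ofInjective ι.1 ι.2)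
  have hs : ∀ a : Perm (Fin m), Perm.sign (φ a) = Perm.sign a :=
    fun a => Perm.sign_extendDomain a (Equiv.ofInjective ι.1 ι.2)
  have hφ : Function.Injective φ := Perm.extendDomainHom_injective (Equiv.ofInjective ι.1 ι.2)
  refine ⟨(φ.comp (alternatingGroup (Fin m)).subtype).codRestrict _ ?_, ?_⟩
  · rintro ⟨a, ha⟩
    rw [Perm.mem_alternatingGroup] at ha ⊢
    change Perm.sign (φ a) = 1
    rw [hs, ha]
  · intro a b hab
    have h1 := congrArg Subtype.val hab
    exact Subtype.ext (hφ h1)

theorem card_alt {n : ℕ} (hn : 2 ≤ n) : 2 * Nat.card (alternatingGroup (Fin n)) = n.factorial := by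
  have : Nontrivial (Fin n) := Fin.nontrivial_iff_two_le.2 (by omega)
  rw [two_mul_nat_card_alternatingGroup, Nat.card_perm, Nat.card_fin]

/-- the length grows by one from `A_m` to `A_n`, `m < n` -/
theorem has_succ {m n k : ℕ} (hm : 2 ≤ m) (h : m < n) (hk : Has (alternatingGroup (Fin m)) k) :
    Has (alternatingGroup (Fin n)) (k + 1) := by
  obtain ⟨f, hf⟩ := exists_inj h.le
  refine Has.succ_of_ne_top f.range ?_ (hk.of_equiv (MonoidHom.ofInjective hf))
  intro h1
  have h2 : Nat.card f.range = Nat.card (alternatingGroup (Fin m)) :=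
    Nat.card_congr (MonoidHom.ofInjective hf).symm.toEquiv
  rw [h1, Subgroup.card_top] at h2
  have h3 := card_alt hm
  have h4 := card_alt (n := n) (by omega)
  have h5 : m.factorial < n.factorial := (Nat.factorial_lt (by omega)).2 h
  omega

theorem has_mono {m n k : ℕ} (h : m ≤ n) (hk : Has (alternatingGroup (Fin m)) k) :
    Has (alternatingGroup (Fin n)) k := by
  obtain ⟨f, hf⟩ := exists_inj h
  exact hk.of_injective f hf

theorem card_eight : Nat.card (alternatingGroup (Fin 8)) = 20160 := by
  have h := card_alt (n := 8) (by norm_num)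
  have h1 : Nat.factorial 8 = 40320 := by decide
  omega

theorem has_eight : Has (alternatingGroup (Fin 8)) 7 := by
  refine has_succ_of_pow_dvd Nat.prime_two (k := 6) ?_ ?_
  · rw [card_eight]; decide
  · rw [card_eight]; decide

theorem has_nine {n : ℕ} (hn : 9 ≤ n) : Has (alternatingGroup (Fin n)) 8 :=
  has_mono hn (has_succ (by norm_num) (by norm_num : 8 < 9) has_eight)

theorem has_ten {n : ℕ} (hn : 10 ≤ n) : Has (alternatingGroup (Fin n)) 9 :=
  has_mono hn (has_succ (by norm_num) (by norm_num : 9 < 10) (has_nine le_rfl))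

end Cfsg.Agent.H321.Alt
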