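import Mathlib

/-!
# Chains of subgroups (helper321)

`Has G n` : the finite group `G` has a strictly increasing chain of at least `n + 1` subgroups.
-/

set_option autoImplicit false

namespace Cfsg.Agent.H321.Chain

open Subgroup

/-- `G` has a chain of subgroups of length at least `n`. -/
def Has (G : Type*) [Group G] (n : ℕ) : Prop := ∃ p : LTSeries (Subgroup G), n ≤ p.length

variable {G : Type*} [Group G]

theorem Has.mono {m n : ℕ} (h : Has G n) (hmn : m ≤ n) : Has G m := by
  obtain ⟨p, hp⟩ := h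
  exact ⟨p, hmn.trans hp⟩

theorem has_zero : Has G 0 := ⟨RelSeries.singleton _ ⊥, Nat.zero_le _⟩

/-- a chain which ends in the whole group -/
theorem exists_last {n : ℕ} (h : Has G n) : ∃ p : LTSeries (Subgroup G), n ≤ p.length ∧ p.last = ⊤ := by
  obtain ⟨p, hp⟩ := h
  by_cases ht : p.last = ⊤
  · exact ⟨p, hp, ht⟩
  · have : p.last < ⊤ := lt_top_iff_ne_top.2 ht
    refine ⟨p.snoc ⊤ this, ?_, ?_⟩
    · rw [RelSeries.snoc_length]; omega
    · exact RelSeries.last_snoc _ _ _

/-- a chain which starts with the trivial group -/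
theorem exists_head {n : ℕ} (h : Has G n) : ∃ p : LTSeries (Subgroup G), n ≤ p.length ∧ p.head = ⊥ := by
  obtain ⟨p, hp⟩ := h
  by_cases ht : p.head = ⊥
  · exact ⟨p, hp, ht⟩
  · have : ⊥ < p.head := bot_lt_iff_ne_bot.2 ht
    refine ⟨p.cons ⊥ this, ?_, ?_⟩
    · rw [RelSeries.cons_length]; omega
    · exact RelSeries.head_cons _ _ _

theorem Has.of_injective {H : Type*} [Group H] {n : ℕ} (h : Has H n) (f : H →* G) (hf : Function.Injective f) :
    Has G n := by
  obtain ⟨p, hp⟩ := h
  refine ⟨p.map (fun K => K.map f) ?_, hp⟩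
  intro A B hAB
  exact (Subgroup.map_lt_map_iff_of_injective hf).2 hAB

theorem Has.of_equiv {H : Type*} [Group H] {n : ℕ} (h : Has H n) (e : H ≃* G) : Has G n :=
  h.of_injective e.toMonoidHom e.injective

/-- a proper subgroup -/
theorem Has.succ_of_ne_top {n : ℕ} (H : Subgroup G) (hH : H ≠ ⊤) (h : Has H n) : Has G (n + 1) := by
  obtain ⟨p, hp⟩ := h
  have hs : StrictMono (fun K : Subgroup H => K.map H.subtype) :=
    fun A B hAB => (Subgroup.map_lt_map_iff_of_injective H.subtype_injective).2 hAB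
  have hlt : (p.map _ hs).last < ⊤ := by
    rw [LTSeries.last_map]
    refine lt_of_le_of_lt ?_ (lt_top_iff_ne_top.2 hH)
    exact Subgroup.map_subtype_le _
  refine ⟨(p.map _ hs).snoc ⊤ hlt, ?_⟩
  rw [RelSeries.snoc_length]
  exact Nat.succ_le_succ hp

theorem Has.of_le {n : ℕ} {H K : Subgroup G} (hHK : H ≤ K) (h : Has H n) : Has K n :=
  h.of_injective (Subgroup.inclusion hHK) (Subgroup.inclusion_injective hHK)

theorem Has.succ_of_lt {n : ℕ} {H K : Subgroup G} (hHK : H < K) (h : Has H n) : Has K (n + 1) := by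
  refine Has.succ_of_ne_top (H.subgroupOf K) ?_ (h.of_equiv (Subgroup.subgroupOfEquivOfLe hHK.le).symm)
  intro h1
  exact hHK.not_ge (Subgroup.subgroupOf_eq_top.1 h1)

/-- extensions -/
theorem Has.ext {a b : ℕ} (N : Subgroup G) [N.Normal] (ha : Has N a) (hb : Has (G ⧸ N) b) : Has G (a + b) := by
  obtain ⟨p, hp, hpl⟩ := exists_last ha
  obtain ⟨q, hq, hqh⟩ := exists_head hb
  have hs1 : StrictMono (fun K : Subgroup N => K.map N.subtype) :=
    fun A B hAB => (Subgroup.map_lt_map_iff_of_injective N.subtype_injective).2 hAB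
  have hs2 : StrictMono (fun K : Subgroup (G ⧸ N) => K.comap (QuotientGroup.mk' N)) := by
    intro A B hAB
    exact (Subgroup.comap_lt_comap_of_surjective (QuotientGroup.mk'_surjective N)).2 hAB
  have hc : (p.map _ hs1).last = (q.map _ hs2).head := by
    rw [LTSeries.last_map, LTSeries.head_map, hpl, hqh]
    simp only [MonoidHom.comap_bot, QuotientGroup.ker_mk']
    rw [← MonoidHom.range_eq_map, Subgroup.range_subtype]
  refine ⟨(p.map _ hs1).smash (q.map _ hs2) hc, ?_⟩
  rw [RelSeries.smash_length]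
  exact Nat.add_le_add hp hq

/-- subgroups of prime power order -/
theorem exists_chain_pow [Finite G] {p : ℕ} [Fact p.Prime] (k : ℕ) (hk : p ^ k ∣ Nat.card G) :
    ∃ s : LTSeries (Subgroup G), k ≤ s.length ∧ Nat.card ↥(s.last) = p ^ k := by
  induction k with
  | zero => exact ⟨RelSeries.singleton _ ⊥, Nat.zero_le _, by simp [RelSeries.last_singleton]⟩
  | succ k ih =>
    obtain ⟨s, hs, hc⟩ := ih ((pow_dvd_pow p (Nat.le_succ k)).trans hk)
    obtain ⟨K, hK, hle⟩ := Sylow.exists_subgroup_card_pow_succ hk hc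
    have hlt : s.last < K := by
      refine lt_of_le_of_ne hle ?_
      intro h
      rw [h] at hc
      rw [hK] at hc
      have := Nat.pow_right_injective (Nat.Prime.two_le (Fact.out : p.Prime)) hc
      omega
    refine ⟨s.snoc K hlt, ?_, ?_⟩
    · rw [RelSeries.snoc_length]; omega
    · rw [RelSeries.last_snoc]; exact hK

theorem has_of_pow_dvd [Finite G] {p : ℕ} (hp : p.Prime) {k : ℕ} (hk : p ^ k ∣ Nat.card G) : Has G k := by
  have : Fact p.Prime := ⟨hp⟩
  obtain ⟨s, hs, -⟩ := exists_chain_pow k hk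
  exact ⟨s, hs⟩

/-- a group of order divisible by `p ^ k` but not equal to it has a chain of length `k + 1` -/
theorem has_succ_of_pow_dvd [Finite G] {p : ℕ} (hp : p.Prime) {k : ℕ} (hk : p ^ k ∣ Nat.card G)
    (hne : Nat.card G ≠ p ^ k) : Has G (k + 1) := by
  have : Fact p.Prime := ⟨hp⟩
  obtain ⟨s, hs, hc⟩ := exists_chain_pow k hk
  have hlt : s.last < ⊤ := by
    rw [lt_top_iff_ne_top]
    intro h
    rw [h] at hc
    exact hne (by rw [← hc, Subgroup.card_top])
  exact ⟨s.snoc ⊤ hlt, by rw [RelSeries.snoc_length]; omega⟩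

/-- a Sylow subgroup which is not maximal -/
theorem has_of_sylow_not_coatom [Finite G] {p : ℕ} [Fact p.Prime] (S : Sylow p G) {k : ℕ}
    (hS : Nat.card ↥(S : Subgroup G) = p ^ k) (hne : (S : Subgroup G) ≠ ⊤) (hm : ¬ IsCoatom (S : Subgroup G)) :
    Has G (k + 2) := by
  have h1 : ∃ K : Subgroup G, (S : Subgroup G) < K ∧ K ≠ ⊤ := by
    by_contra hcon
    apply hm
    refine ⟨hne, fun K hK => ?_⟩
    by_contra hK'
    exact hcon ⟨K, hK, hK'⟩
  obtain ⟨K, hK, hKt⟩ := h1
  have h2 : Has ↥(S : Subgroup G) k := has_of_pow_dvd (Fact.out : p.Prime) (by rw [hS])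
  have h3 : Has K (k + 1) := h2.succ_of_lt hK
  exact Has.succ_of_ne_top K hKt h3

/-- the form used in the statements -/
theorem Has.exists_strictAnti {n : ℕ} (h : Has G n) : ∃ c : Fin (n + 1) → Subgroup G, StrictAnti c := by
  obtain ⟨p, hp⟩ := h
  refine ⟨fun i => p.toFun (Fin.castLE (by omega) i.rev), ?_⟩
  intro i j hij
  apply p.strictMono
  have : j.rev < i.rev := Fin.rev_lt_rev.2 hij
  exact this

end Cfsg.Agent.H321.Chain
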