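import Cfsg.Agent.H321.Chain
import Cfsg.Agent.H321.Orders
import Cfsg.Agent.H321.Alt
import Cfsg.Agent.QTUnique.Inst
import Cfsg.Agent.QTKE.Final
import Cfsg.Agent.S0000
import Cfsg.Agent.S1765
import Cfsg.Agent.S0035
import Cfsg.Agent.OrdDiv.Table

/-!
# Simple groups in which a Sylow 2-subgroup is a maximal subgroup (helper321)

`main` : `G` simple, non-abelian, `S` a Sylow 2-subgroup which is a maximal subgroup.  Then `G` is `PSL₂(q)`, `q > 3` odd,
`q = 9` or `q` a prime next to a power of 2; or `PSL₃(3)`; or `M₁₁`; or `G` has a chain of subgroups of length 9; or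
`2 ^ 8` divides `|G|`.
-/

set_option autoImplicit false

namespace Cfsg.Agent.H321.MaxSylow

open Subgroup Cfsg
open Cfsg.Agent.QTKE (PSL Row NE Rows)
open Cfsg.Agent.H321.Chain

universe u

variable {G : Type u} [Group G] [Finite G] [IsSimpleGroup G]

theorem kproper (G : Type u) [Group G] [Finite G] : IsKProper G := by
  intro H _ H' N _ hs _
  have := hs
  exact Cfsg.Agent.S0000.result

omit [Finite G] [IsSimpleGroup G] in
theorem isCoatom_conj {K : Subgroup G} (hK : IsCoatom K) (g : G) : IsCoatom (K.map (MulAut.conj g).toMonoidHom) := by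
  have h := ((MulAut.conj g).mapSubgroup).isCoatom_iff K
  exact h.2 hK

omit [IsSimpleGroup G] in
theorem isCoatom_sylow {S : Sylow 2 G} (hS : IsCoatom (S : Subgroup G)) (S' : Sylow 2 G) :
    IsCoatom (S' : Subgroup G) := by
  have : Fact (Nat.Prime 2) := ⟨Nat.prime_two⟩
  obtain ⟨g, hg⟩ := MulAction.exists_smul_eq G S S'
  rw [← hg, Sylow.coe_subgroup_smul]
  exact isCoatom_conj hS g

omit [Finite G] in
theorem two_dvd (hG : ¬ IsMulCommutative G) {S : Sylow 2 G} (hS : IsCoatom (S : Subgroup G)) :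
    (S : Subgroup G) ≠ ⊥ := by
  intro h
  have : Fact (Nat.Prime 2) := ⟨Nat.prime_two⟩
  rw [h] at hS
  -- every non-identity element generates `G`
  apply hG
  obtain ⟨x, hx⟩ := exists_ne (1 : G)
  have h1 : zpowers x = ⊤ := by
    apply hS.2
    rw [bot_lt_iff_ne_bot]
    intro h0
    exact hx (zpowers_eq_bot.1 h0)
  have : IsCyclic G := ⟨x, fun y => (h1 ▸ mem_top y : y ∈ zpowers x)⟩
  exact IsCyclic.isMulCommutative

theorem eq_sylow (hG : ¬ IsMulCommutative G) {S : Sylow 2 G} (hS : IsCoatom (S : Subgroup G)) {N : Subgroup G}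
    (hN : IsTwoLocal N) {S' : Sylow 2 G} (h : (S' : Subgroup G) ≤ N) : N = (S' : Subgroup G) := by
  have h1 := isCoatom_sylow hS S'
  by_contra hne
  have h2 : (S' : Subgroup G) < N := lt_of_le_of_ne h (Ne.symm hne)
  exact QTUnique.twoLocal_ne_top hG hN (h1.2 N h2)

theorem even_characteristic (hG : ¬ IsMulCommutative G) {S : Sylow 2 G} (hS : IsCoatom (S : Subgroup G)) :
    IsOfEvenCharacteristic G := by
  rintro M hM ⟨S', hS'⟩
  have h1 := eq_sylow hG hS hM hS'
  subst h1
  have h2 : pCore 2 ↥(S' : Subgroup G) = ⊤ := by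
    rw [eq_top_iff]
    refine le_sSup ⟨inferInstance, ?_⟩
    exact S'.isPGroup'.to_subgroup ⊤
  unfold IsOfCharacteristicTwo
  rw [h2]
  exact le_top

theorem unique (hG : ¬ IsMulCommutative G) {S : Sylow 2 G} (hS : IsCoatom (S : Subgroup G)) :
    maxTwoLocalsContaining (S : Subgroup G) = {(S : Subgroup G)} := by
  have hb := two_dvd hG hS
  have hloc : IsTwoLocal (S : Subgroup G) := by
    have h0 : IsTwoLocal (normalizer ((S : Subgroup G) : Set G)) := ⟨S, S.isPGroup', hb, rfl⟩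
    have h1 := eq_sylow hG hS h0 (S' := S) le_normalizer
    rw [h1] at h0
    exact h0
  ext N
  constructor
  · rintro ⟨h1, h2⟩
    exact eq_sylow hG hS h1.1 h2
  · intro h
    rw [Set.mem_singleton_iff] at h
    subst h
    exact ⟨⟨hloc, fun N hN hle => eq_sylow hG hS hN hle⟩, le_rfl⟩

/-- a maximal Sylow 2-subgroup is not strongly embedded -/
theorem not_emb (hG : ¬ IsMulCommutative G) {S : Sylow 2 G} (hS : IsCoatom (S : Subgroup G)) :
    ¬ IsStronglyEmbedded (S : Subgroup G) := by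
  rintro ⟨h1, h2, h3⟩
  have hF : IsFrobeniusComplement (S : Subgroup G) := by
    refine ⟨two_dvd hG hS, h1, fun g hg => ?_⟩
    have h4 := h3 g hg
    have h5 : IsPGroup 2 ↥((S : Subgroup G) ⊓ (S : Subgroup G).map (MulAut.conj g).toMonoidHom) :=
      S.isPGroup'.to_le inf_le_left
    have : Fact (Nat.Prime 2) := ⟨Nat.prime_two⟩
    obtain ⟨n, hn⟩ := IsPGroup.iff_card.1 h5
    rcases Nat.eq_zero_or_pos n with h0 | h0
    · rw [h0, pow_zero] at hn
      exact Subgroup.card_eq_one.1 hn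
    · exfalso
      rw [hn] at h4
      exact (Nat.not_odd_iff_even.2 ((even_two).pow_of_ne_zero (by omega))) h4
  obtain ⟨N, -, hN, hc⟩ := Cfsg.Agent.S0035.result (S : Subgroup G) hF
  rcases hN.eq_bot_or_eq_top with h | h
  · rw [h] at hc
    exact h1 (Subgroup.isComplement'_bot_left.1 hc)
  · rw [h] at hc
    exact two_dvd hG hS (Subgroup.isComplement'_top_left.1 hc)

/-- a long chain, or `2 ^ 8` divides the order -/
def Big (G : Type*) [Group G] : Prop := Has G 9 ∨ 2 ^ 8 ∣ Nat.card G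

omit [IsSimpleGroup G] in
theorem big_of_pow {q e : ℕ} (hq : IsPrimePow q) (he : 9 ≤ e) (h : q ^ e ∣ Nat.card G) : Big G := by
  obtain ⟨p, hp, hd⟩ := Orders.exists_prime hq h
  exact Or.inl ((has_of_pow_dvd hp hd).mono he)

theorem tri_le {n : ℕ} (hn : 5 ≤ n) : 9 ≤ n * (n - 1) / 2 := by
  have : 5 * 4 ≤ n * (n - 1) := Nat.mul_le_mul hn (by omega)
  omega

theorem odd_card {p : ℕ} (hp : p.Prime) (hp2 : p ≠ 2) {F : Type} [Field F] [Fintype F] [CharP F p] :
    Odd (Fintype.card F) := QTUnique.odd_card hp hp2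

/-- the case of Lie type groups of odd characteristic -/
theorem lieOdd (hG : ¬ IsMulCommutative G) (hE : IsOfEvenCharacteristic G) {T : Sylow 2 G} {M : Subgroup G}
    (hM : maxTwoLocalsContaining (T : Subgroup G) = {M}) {p : ℕ} (hp : p.Prime) (hp2 : p ≠ 2) (hL : IsLieTypeChar p G)
    (h1 : ¬ (∃ (F : Type) (_ : Field F) (_ : Fintype F), ((Fintype.card F).Prime ∧ ((∃ k : ℕ, Fintype.card F + 1 = 2 ^ k) ∨ (∃ k : ℕ, Fintype.card F = 2 ^ k + 1)) ∨ Fintype.card F = 9) ∧
          Nonempty (G ≃* Matrix.ProjectiveSpecialLinearGroup (Fin 2) F)))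
    (h2 : ¬ (∃ (F : Type) (_ : Field F) (_ : Fintype F), Fintype.card F = 3 ∧
          (Nonempty (G ≃* Matrix.ProjectiveSpecialLinearGroup (Fin 3) F) ∨ Nonempty (G ≃* Cfsg.PSp 2 F) ∨
            Nonempty (G ≃* ↥(Cfsg.Lie.chevG2.group F)))))
    (h3 : ¬ (∃ (F : Type) (_ : Field F) (_ : Fintype F), Fintype.card F = 9 ∧ (Nonempty (G ≃* Cfsg.PSU 3 F 3) ∨ Nonempty (G ≃* Cfsg.PSU 4 F 3)))) :
    Big G := by
  have R := QTKE.rows
  have N := QTUnique.nuRows.{u}
  have T' := OrdDiv.table.{u}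
  have three_le : ∀ {F : Type} [Field F] [Fintype F], Odd (Fintype.card F) → 3 ≤ Fintype.card F := by
    intro F _ _ hF
    have hc2 : 1 < Fintype.card F := Fintype.one_lt_card
    obtain ⟨k, hk⟩ := hF
    omega
  rcases hL with h | h | h | h | h | h | h | h | ⟨h, -⟩ | ⟨h, -⟩ | ⟨-, h⟩
  · obtain ⟨F, i1, i2, i3, n, hn, hn2, ⟨e⟩⟩ := h
    have hF : Odd (Fintype.card F) := odd_card hp hp2
    have hF3 := three_le hF
    obtain rfl | rfl | rfl | hn5 : n = 2 ∨ n = 3 ∨ n = 4 ∨ 5 ≤ n := by omega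
    · have h4 := hn2 rfl
      exfalso
      refine (R.psl2 F hF (by omega) ?_ ?_).oddCore hG e hE
      · rintro ⟨hpp, ⟨k, -, hk⟩ | ⟨k, hk⟩⟩
        · exact h1 ⟨F, i1, i2, Or.inl ⟨hpp, Or.inr ⟨k, hk⟩⟩, ⟨e⟩⟩
        · exact h1 ⟨F, i1, i2, Or.inl ⟨hpp, Or.inl ⟨k, hk⟩⟩, ⟨e⟩⟩
      · intro h9
        exact h1 ⟨F, i1, i2, Or.inr h9, ⟨e⟩⟩
    · exfalso
      by_cases h : Fintype.card F = 3
      · exact h2 ⟨F, i1, i2, h, Or.inl ⟨e⟩⟩
      · exact (R.psl3 F hF (by omega)).ne hG e hE
    · exfalso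
      by_cases h : Fintype.card F = 3
      · have : Finite (PSL 4 F) := Finite.of_equiv G e.toEquiv
        exact (N.l43 F h).false e hM
      · exact (R.psl4odd F hF (by omega)).ne hG e hE
    · refine big_of_pow (q := Fintype.card F) Fintype.isPrimePow_card_of_field (tri_le hn5) ?_
      rw [Nat.card_congr e.toEquiv]
      exact Orders.psl_dvd hn
  · obtain ⟨F, i1, i2, i3, m, hm, hm2, ⟨e⟩⟩ := h
    have hF : Odd (Fintype.card F) := odd_card hp hp2
    have hF3 := three_le hF
    obtain rfl | hm3 : m = 2 ∨ 3 ≤ m := by omega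
    · exfalso
      by_cases h : Fintype.card F = 3
      · exact h2 ⟨F, i1, i2, h, Or.inr (Or.inl ⟨e⟩)⟩
      · exact (R.psp2odd F hF (by omega)).ne hG e hE
    · refine big_of_pow (q := Fintype.card F) Fintype.isPrimePow_card_of_field (e := m ^ 2) (by nlinarith) ?_
      rw [Nat.card_congr e.toEquiv]
      exact Orders.psp_dvd (by omega)
  · obtain ⟨F, i1, i2, i3, n, q, hFq, hn, -, ⟨e⟩⟩ := h
    have hF : Odd (Fintype.card F) := odd_card hp hp2
    have hq : Odd q := QTUnique.odd_of_pow (hFq ▸ hF) two_ne_zero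
    have hq3 : q = 3 ∨ 3 < q := by
      have hc2 : 1 < Fintype.card F := Fintype.one_lt_card
      have hq1 : q ≠ 1 := by
        rintro rfl
        omega
      obtain ⟨k, hk⟩ := hq
      omega
    obtain rfl | rfl | hn5 : n = 3 ∨ n = 4 ∨ 5 ≤ n := by omega
    · exfalso
      rcases hq3 with rfl | hq3
      · exact h3 ⟨F, i1, i2, by rw [hFq]; norm_num, Or.inl ⟨e⟩⟩
      · exact (R.psu3odd F q hFq hq hq3).ne hG e hE
    · exfalso
      rcases hq3 with rfl | hq3
      · exact h3 ⟨F, i1, i2, by rw [hFq]; norm_num, Or.inr ⟨e⟩⟩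
      · exact (R.psu4odd F q hFq hq hq3).ne hG e hE
    · have hqp : IsPrimePow q := (isPrimePow_pow_iff (by norm_num)).1 (hFq ▸ Fintype.isPrimePow_card_of_field)
      refine big_of_pow hqp (tri_le hn5) ?_
      rw [Nat.card_congr e.toEquiv]
      exact Orders.psu_dvd hFq (by omega)
  · obtain ⟨F, i1, i2, i3, m, hm, hF, ⟨e⟩⟩ := h
    refine big_of_pow (q := Fintype.card F) Fintype.isPrimePow_card_of_field (e := m ^ 2) (by nlinarith) ?_
    rw [Nat.card_congr e.toEquiv]
    exact Orders.oodd_dvd hm hF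
  · obtain ⟨F, i1, i2, i3, m, hm, ⟨e⟩⟩ := h
    have hmm : 4 * 3 ≤ m * (m - 1) := Nat.mul_le_mul hm (by omega)
    refine big_of_pow (q := Fintype.card F) Fintype.isPrimePow_card_of_field (e := m * (m - 1)) (by omega) ?_
    rw [Nat.card_congr e.toEquiv]
    exact Orders.oplus_dvd hm
  · obtain ⟨F, i1, i2, i3, m, a, b, hm, hab, ⟨e⟩⟩ := h
    have hmm : 4 * 3 ≤ m * (m - 1) := Nat.mul_le_mul hm (by omega)
    refine big_of_pow (q := Fintype.card F) Fintype.isPrimePow_card_of_field (e := m * (m - 1)) (by omega) ?_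
    rw [Nat.card_congr e.toEquiv]
    exact Orders.ominus_dvd hm hab
  · obtain ⟨F, i1, i2, i3, h⟩ := h
    have hF : Odd (Fintype.card F) := odd_card hp hp2
    rcases h with ⟨hF3, ⟨e⟩⟩ | ⟨⟨e⟩⟩ | ⟨⟨e⟩⟩ | ⟨⟨e⟩⟩ | ⟨⟨e⟩⟩
    · exfalso
      by_cases h : Fintype.card F = 3
      · exact h2 ⟨F, i1, i2, h, Or.inr (Or.inr ⟨e⟩)⟩
      · exact (R.g2odd F hF (by omega)).ne hG e hE
    · refine big_of_pow (q := Fintype.card F) (e := 24) Fintype.isPrimePow_card_of_field (by norm_num) ?_
      rw [Nat.card_congr e.toEquiv, T'.f4 F _ rfl, mul_assoc, mul_assoc, mul_assoc]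
      exact Dvd.intro _ rfl
    · refine big_of_pow (q := Fintype.card F) (e := 36) Fintype.isPrimePow_card_of_field (by norm_num) ?_
      rw [Nat.card_congr e.toEquiv]
      have h0 := T'.e6 F _ rfl
      simp only [mul_assoc] at h0
      refine Orders.dvd_of ?_ h0 (Dvd.intro _ rfl)
      have h1 := OrdDiv.cop_sub (q := Fintype.card F) (k := 1) Fintype.card_pos le_rfl
      rw [pow_one] at h1
      exact Nat.Coprime.coprime_dvd_left (Nat.gcd_dvd_right _ _) h1
    · refine big_of_pow (q := Fintype.card F) (e := 63) Fintype.isPrimePow_card_of_field (by norm_num) ?_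
      rw [Nat.card_congr e.toEquiv]
      have h0 := T'.e7 F _ rfl
      simp only [mul_assoc] at h0
      refine Orders.dvd_of ?_ h0 (Dvd.intro _ rfl)
      have h1 := OrdDiv.cop_sub (q := Fintype.card F) (k := 1) Fintype.card_pos le_rfl
      rw [pow_one] at h1
      exact Nat.Coprime.coprime_dvd_left (Nat.gcd_dvd_right _ _) h1
    · refine big_of_pow (q := Fintype.card F) (e := 120) Fintype.isPrimePow_card_of_field (by norm_num) ?_
      rw [Nat.card_congr e.toEquiv, T'.e8 F _ rfl]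
      simp only [mul_assoc]
      exact Dvd.intro _ rfl
  · obtain ⟨K, i1, i2, i3, q, hq, h⟩ := h
    rcases h with ⟨hK, ⟨e⟩⟩ | ⟨hK, ⟨e⟩⟩
    · refine big_of_pow (q := q) (e := 36) hq (by norm_num) ?_
      rw [Nat.card_congr e.toEquiv]
      have h0 := T'.te6 K q hq hK
      simp only [mul_assoc] at h0
      refine Orders.dvd_of ?_ h0 (Dvd.intro _ rfl)
      have h1 := OrdDiv.cop_add (q := q) (k := 1) le_rfl
      rw [pow_one] at h1
      exact Nat.Coprime.coprime_dvd_left (Nat.gcd_dvd_right _ _) h1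
    · refine big_of_pow (q := q) (e := 12) hq (by norm_num) ?_
      rw [Nat.card_congr e.toEquiv, T'.td4 K q hq hK]
      simp only [mul_assoc]
      exact Dvd.intro _ rfl
  · exact absurd h hp2
  · exact absurd h hp2
  · obtain ⟨K, i1, i2, m, hm, hK, ⟨e⟩⟩ := h
    refine big_of_pow (q := 3) (e := (2 * m + 1) * 3) Nat.prime_three.isPrimePow (by omega) ?_
    rw [Nat.card_congr e.toEquiv, T'.ree K m hm hK]
    simp only [mul_assoc]
    rw [pow_mul]
    exact Dvd.intro _ rfl

omit [Finite G] [IsSimpleGroup G] in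
/-- a sporadic group of order divisible by `2 ^ 8` -/
theorem big_spor {x : OrdDiv.Grp × ℕ} (hx : x ∈ OrdDiv.spor) (h : OrdDiv.Real x.1 G) (h8 : x.2 % 2 ^ 8 = 0) :
    Big G := by
  refine Or.inr ?_
  rw [OrdDiv.table.spor G x hx h]
  exact Nat.dvd_of_mod_eq_zero h8

/-- **Simple groups with a maximal Sylow 2-subgroup.** -/
theorem main (hG : ¬ IsMulCommutative G) (S : Sylow 2 G) (hS : IsCoatom (S : Subgroup G)) :
    (∃ (F : Type) (_ : Field F) (_ : Fintype F), Odd (Fintype.card F) ∧ 3 < Fintype.card F ∧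
      (IsTwoPowerNeighbourPrime (Fintype.card F) ∨ Fintype.card F = 9) ∧
        Nonempty (G ≃* Matrix.ProjectiveSpecialLinearGroup (Fin 2) F)) ∨
    (∃ (F : Type) (_ : Field F) (_ : Fintype F), Fintype.card F = 3 ∧
      Nonempty (G ≃* Matrix.ProjectiveSpecialLinearGroup (Fin 3) F)) ∨
    Spor.IsoM11 G ∨ Big G := by
  have hE := even_characteristic hG hS
  have hM := unique hG hS
  have R := QTKE.rows
  have N := QTUnique.nuRows.{u}
  have I := QTUnique.inputs_of.{u} (fun _ _ _ _ h1 h2 h3 => S1765.result h1 h2 h3)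
  have h2 : Fact (Nat.Prime 2) := ⟨Nat.prime_two⟩
  by_cases hc : IsCharacteristicTwoType G
  · rcases I.uniq G hG hc S _ hM with h | ⟨S1, ⟨n, hn, hS1⟩ | hS1⟩
    · exact absurd h (not_emb hG hS)
    · rcases I.dihedral G hG S1 n hn hS1 with ⟨F, i1, i2, hF, hF3, ⟨e⟩⟩ | ⟨⟨e⟩⟩
      · left
        refine ⟨F, i1, i2, hF, hF3, ?_, ⟨e⟩⟩
        by_contra hcon
        push Not at hcon
        exact (R.psl2 F hF hF3 hcon.1 hcon.2).oddCore hG e hE
      · exact (R.a7.oddCore hG e hE).elim
    · rcases I.quasi G S1 hS1 with ⟨F, i1, i2, hF, ⟨e⟩⟩ | ⟨F, i1, i2, q, hF, hq, ⟨e⟩⟩ | h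
      · by_cases h3 : Fintype.card F = 3
        · exact Or.inr (Or.inl ⟨F, i1, i2, h3, ⟨e⟩⟩)
        · exact ((R.psl3 F (by rw [Nat.odd_iff]; omega) (by omega)).ne hG e hE).elim
      · have hq1 : q ≠ 1 := by
          rintro rfl
          have : 1 < Fintype.card F := Fintype.one_lt_card
          omega
        exact ((R.psu3odd F q hF (by rw [Nat.odd_iff]; omega) (by omega)).ne hG e hE).elim
      · exact Or.inr (Or.inr (Or.inl h))
  · rcases I.s1765 G hG (kproper G) hc with ⟨⟨p, hp, hp2, hL⟩, h1, h2, h3⟩ | ⟨n, hn, ⟨e⟩⟩ | h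
    · exact Or.inr (Or.inr (Or.inr (lieOdd hG hE hM hp hp2 hL h1 h2 h3)))
    · obtain rfl | rfl | hn : n = 7 ∨ n = 9 ∨ 10 ≤ n := by omega
      · exact (R.a7.oddCore hG e hE).elim
      · exact (N.a9.false e hM).elim
      · exact Or.inr (Or.inr (Or.inr (Or.inl ((Alt.has_ten hn).of_equiv e.symm))))
    · refine Or.inr (Or.inr (Or.inr ?_))
      rcases h with h | h | h | h | h | h | h | h | h | h | h | h | h | h | h | h | h | h
      · exact (N.m12 G hG h S _ hM).elim
      · obtain ⟨e⟩ := h; exact (R.j1.ne hG e hE).elim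
      · exact (N.j2 G hG h S _ hM).elim
      · obtain ⟨e⟩ := h; exact (R.mcl.ne hG e hE).elim
      · exact big_spor (x := (.ly, 51765179004000000)) (by decide) h (by decide)
      · exact big_spor (x := (.hs, 44352000)) (by decide) h (by decide)
      · exact big_spor (x := (.he, 4030387200)) (by decide) h (by decide)
      · exact big_spor (x := (.on, 460815505920)) (by decide) h (by decide)
      · exact big_spor (x := (.suz, 448345497600)) (by decide) h (by decide)
      · exact big_spor (x := (.ru, 145926144000)) (by decide) h (by decide)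
      · exact big_spor (x := (.co3, 495766656000)) (by decide) h (by decide)
      · exact big_spor (x := (.co1, 4157776806543360000)) (by decide) h (by decide)
      · exact big_spor (x := (.fi22, 64561751654400)) (by decide) h (by decide)
      · exact big_spor (x := (.fi23, 4089470473293004800)) (by decide) h (by decide)
      · exact big_spor (x := (.fi24, 1255205709190661721292800)) (by decide) h (by decide)
      · exact big_spor (x := (.hn, 273030912000000)) (by decide) h (by decide)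
      · exact big_spor (x := (.b, 4154781481226426191177580544000000)) (by decide) h (by decide)
      · exact big_spor (x := (.m, 808017424794512875886459904961710757005754368000000000)) (by decide) h (by decide)

end Cfsg.Agent.H321.MaxSylow
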