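import Cfsg.Agent.H321.MaxSylow
import Cfsg.Agent.H321.PSLThree
import Cfsg.Agent.S0253
import Cfsg.Agent.S0254
import Cfsg.Agent.S0255

/-!
# Simple groups without chains of length 8, of order not divisible by 64 (helper321)
-/

set_option autoImplicit false

namespace Cfsg.Agent.H321.Seven

open Subgroup Cfsg
open Cfsg.Agent.H321.Chain

universe u

/-- `64` divides the order or there is a chain of length 8 -/
def Big (G : Type*) [Group G] : Prop := Has G 8 ∨ 2 ^ 6 ∣ Nat.card G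

theorem big_of_pow {G : Type*} [Group G] [Finite G] {q e : ℕ} (hq : IsPrimePow q) (he : 8 ≤ e)
    (h : q ^ e ∣ Nat.card G) : Big G := by
  obtain ⟨p, hp, hd⟩ := Orders.exists_prime hq h
  exact Or.inl ((has_of_pow_dvd hp hd).mono he)

theorem Big.of_equiv {G H : Type*} [Group G] [Group H] (h : Big G) (e : G ≃* H) : Big H := by
  rcases h with h | h
  · exact Or.inl (h.of_equiv e)
  · exact Or.inr (by rwa [← Nat.card_congr e.toEquiv])

/-- powers of 2 in `q ^ 2 - 1` and so on -/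
theorem two_pow_sq {q : ℕ} (hq : Odd q) : 8 ∣ q ^ 2 - 1 := by
  obtain ⟨k, rfl⟩ := hq
  obtain ⟨t, ht⟩ : Even (k * (k + 1)) := Nat.even_mul_succ_self k
  refine ⟨t, ?_⟩
  have : (2 * k + 1) ^ 2 = 4 * (k * (k + 1)) + 1 := by ring
  rw [this, Nat.add_sub_cancel, ht]; ring

theorem two_pow_four {q : ℕ} (hq : Odd q) : 16 ∣ q ^ 4 - 1 := by
  obtain ⟨t, ht⟩ := two_pow_sq hq
  have h1 : 1 ≤ q ^ 2 := Nat.one_le_pow _ _ hq.pos
  obtain ⟨m, hm⟩ : ∃ m, q ^ 2 = m + 1 := ⟨q ^ 2 - 1, by omega⟩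
  have h4 : q ^ 4 = (q ^ 2) ^ 2 := by ring
  have h5 : q ^ 4 - 1 = m * (m + 2) := by
    rw [h4, hm]
    have : (m + 1) ^ 2 = m * (m + 2) + 1 := by ring
    rw [this, Nat.add_sub_cancel]
  rw [hm, Nat.add_sub_cancel] at ht
  rw [h5, ht]
  exact ⟨t * (4 * t + 1), by ring⟩

theorem two_dvd_sub {q k : ℕ} (hq : Odd q) : 2 ∣ q ^ k - 1 := by
  have h1 : Odd (q ^ k) := hq.pow
  obtain ⟨t, ht⟩ := h1
  exact ⟨t, by omega⟩

theorem two_dvd_add {q k : ℕ} (hq : Odd q) : 2 ∣ q ^ k + 1 := by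
  have h1 : Odd (q ^ k) := hq.pow
  obtain ⟨t, ht⟩ := h1
  exact ⟨t + 1, by omega⟩

theorem dvd_of_gcd {g c n e : ℕ} (h : g * c = n) (hg : g ∣ 4) (hn : 2 ^ (e + 2) ∣ n) : 2 ^ e ∣ c := by
  obtain ⟨r, hr⟩ := hg
  have h1 : 2 ^ (e + 2) ∣ 4 * c := by
    rw [hr, mul_comm g r, mul_assoc, h]
    exact hn.mul_left r
  rw [pow_add, mul_comm] at h1
  exact Nat.dvd_of_mul_dvd_mul_left (by norm_num) h1

theorem glN_three (q : ℕ) : OrdDiv.glN 3 q = (q ^ 3 - 1) * (q ^ 3 - q) * (q ^ 3 - q ^ 2) := by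
  simp [OrdDiv.glN, List.range_succ, mul_assoc]

/-- even `q ≥ 4` : `4 ^ e` divides `q ^ e` -/
theorem even_pow {q : ℕ} (hq : IsPrimePow q) (he : Even q) (h4 : 3 ≤ q) : 2 ^ 2 ∣ q := by
  obtain ⟨p, k, hp, hk, rfl⟩ := (isPrimePow_nat_iff q).1 hq
  have h2 : 2 ∣ p ^ k := he.two_dvd
  have h3 : p = 2 := ((Nat.prime_dvd_prime_iff_eq Nat.prime_two hp).1 (Nat.prime_two.dvd_of_dvd_pow h2)).symm
  subst h3
  refine pow_dvd_pow 2 ?_
  by_contra hcon
  have : k = 1 := by omega
  rw [this] at h4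
  omega

theorem big_of_even {G : Type*} [Group G] {q e : ℕ} (hq : IsPrimePow q) (he : Even q) (h4 : 3 ≤ q) (h3 : 3 ≤ e)
    (h : q ^ e ∣ Nat.card G) : Big G := by
  right
  have h1 : (2 ^ 2) ^ 3 ∣ q ^ e := (pow_dvd_pow_of_dvd (even_pow hq he h4) 3).trans (pow_dvd_pow q h3)
  rw [← pow_mul] at h1
  exact h1.trans h

theorem big_of_even' {G : Type*} [Group G] {q e : ℕ} (he : Even q) (h6 : 6 ≤ e)
    (h : q ^ e ∣ Nat.card G) : Big G := by
  right
  exact ((pow_dvd_pow_of_dvd he.two_dvd 6).trans (pow_dvd_pow q h6)).trans h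

/-- `PSL₄(q)`, `q` odd -/
theorem psl4 {F : Type} [Field F] [Fintype F] (hF : Odd (Fintype.card F)) :
    2 ^ 6 ∣ Nat.card (Matrix.ProjectiveSpecialLinearGroup (Fin 4) F) := by
  have h := Orders.psl_eq (F := F) (n := 4) (by norm_num)
  have hq : 1 < Fintype.card F := Fintype.one_lt_card
  generalize Fintype.card F = q at *
  change Nat.gcd 4 (q - 1) * (q - 1) * _ = _ at h
  have h3 : OrdDiv.glN 4 q = (q - 1) * (q ^ 6 * ((q ^ 2 - 1) * (q ^ 3 - 1) * (q ^ 4 - 1))) := by
    have e1 : OrdDiv.glN 4 q = (q ^ 4 - 1) * (q ^ 4 - q) * (q ^ 4 - q ^ 2) * (q ^ 4 - q ^ 3) := by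
      simp [OrdDiv.glN, List.range_succ, mul_assoc]
    have e2 : q ^ 4 - q = q * (q ^ 3 - 1) := by rw [Nat.mul_sub]; ring_nf
    have e3 : q ^ 4 - q ^ 2 = q ^ 2 * (q ^ 2 - 1) := by rw [Nat.mul_sub]; ring_nf
    have e4 : q ^ 4 - q ^ 3 = q ^ 3 * (q - 1) := by rw [Nat.mul_sub]; ring_nf
    rw [e1, e2, e3, e4]
    ring
  rw [h3] at h
  have h4 : Nat.gcd 4 (q - 1) * Nat.card (Matrix.ProjectiveSpecialLinearGroup (Fin 4) F) =
      q ^ 6 * ((q ^ 2 - 1) * (q ^ 3 - 1) * (q ^ 4 - 1)) := by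
    apply Nat.eq_of_mul_eq_mul_left (show 0 < q - 1 by omega)
    rw [← h]; ring
  refine dvd_of_gcd h4 (Nat.gcd_dvd_left _ _) ?_
  have h5 := Nat.mul_dvd_mul (Nat.mul_dvd_mul (two_pow_sq hF) (two_dvd_sub (k := 3) hF)) (two_pow_four hF)
  norm_num at h5 ⊢
  exact h5.mul_left _

/-- `PSp₄(q)`, `q` odd -/
theorem psp2 {F : Type} [Field F] [Fintype F] (hF : Odd (Fintype.card F)) :
    2 ^ 6 ∣ Nat.card (PSp 2 F) := by
  have h := Orders.psp_eq (F := F) (m := 2) (by norm_num)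
  have hq : 1 < Fintype.card F := Fintype.one_lt_card
  generalize Fintype.card F = q at *
  have h3 : OrdDiv.prB q 2 = (q ^ 2 - 1) * (q ^ 4 - 1) := by
    simp [OrdDiv.prB, List.range_succ]
  rw [h3] at h
  have h5 := Nat.mul_dvd_mul (two_pow_sq hF) (two_pow_four hF)
  have h6 : Nat.gcd 2 (q - 1) = 2 := Nat.gcd_eq_left (by obtain ⟨k, hk⟩ := hF; exact ⟨k, by omega⟩)
  rw [h6] at h
  have h7 : 2 * 2 ^ 6 ∣ 2 * Nat.card (PSp 2 F) := by
    rw [h]
    norm_num at h5 ⊢
    exact h5.mul_left _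
  exact Nat.dvd_of_mul_dvd_mul_left (by norm_num) h7

/-- `PSU₄(q)`, `q` odd -/
theorem psu4 {F : Type} [Field F] [Fintype F] {q : ℕ} (hF : Fintype.card F = q ^ 2) (hq : Odd q) :
    2 ^ 6 ∣ Nat.card (PSU 4 F q) := by
  have h := Orders.psu_eq (F := F) (n := 4) hF (by norm_num)
  have h3 : OrdDiv.prU q 4 = (q + 1) * ((q ^ 2 - 1) * (q ^ 3 + 1) * (q ^ 4 - 1)) := by
    rw [Orders.prU_eq]
    simp [Finset.prod_range_succ, show ¬ Even 3 by decide]
    ring
  rw [h3] at h
  have h4 : Nat.gcd 4 (q + 1) * Nat.card (PSU 4 F q) =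
      q ^ (4 * (4 - 1) / 2) * ((q ^ 2 - 1) * (q ^ 3 + 1) * (q ^ 4 - 1)) := by
    apply Nat.eq_of_mul_eq_mul_left (show 0 < q + 1 by omega)
    calc _ = Nat.gcd 4 (q + 1) * (q + 1) * Nat.card (PSU 4 F q) := by ring
      _ = _ := h
      _ = _ := by ring
  refine dvd_of_gcd h4 (Nat.gcd_dvd_left _ _) ?_
  have h5 := Nat.mul_dvd_mul (Nat.mul_dvd_mul (two_pow_sq hq) (two_dvd_add (k := 3) hq)) (two_pow_four hq)
  norm_num at h5 ⊢
  exact h5.mul_left _

/-- `PSU₃(5)` -/
theorem psu35 {F : Type} [Field F] [Fintype F] (hF : Fintype.card F = 5 ^ 2) :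
    Nat.card (PSU 3 F 5) = 126000 := by
  have h := Orders.psu_eq (F := F) (n := 3) hF (by norm_num)
  have h3 : OrdDiv.prU 5 3 = 6 * 24 * 126 := by decide
  rw [h3] at h
  norm_num at h
  omega

theorem tri_le {n : ℕ} (hn : 5 ≤ n) : 8 ≤ n * (n - 1) / 2 := by
  have : 5 * 4 ≤ n * (n - 1) := Nat.mul_le_mul hn (by omega)
  omega

theorem big_lin {F : Type} [Field F] [Fintype F] {n : ℕ} (hn : 3 ≤ n) (h3 : n = 3 → Fintype.card F ≠ 2) :
    Big (Matrix.ProjectiveSpecialLinearGroup (Fin n) F) := by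
  have hq : 1 < Fintype.card F := Fintype.one_lt_card
  have hd := Orders.psl_dvd (F := F) (n := n) (by omega)
  obtain rfl | rfl | hn5 : n = 3 ∨ n = 4 ∨ 5 ≤ n := by omega
  · have h2 := h3 rfl
    rcases Nat.even_or_odd (Fintype.card F) with he | ho
    · exact big_of_even Fintype.isPrimePow_card_of_field he (by omega) (e := 3) (by norm_num) hd
    · exact Or.inl (PSLThree.psl3 (by rwa [Nat.card_eq_fintype_card]))
  · rcases Nat.even_or_odd (Fintype.card F) with he | ho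
    · exact big_of_even' he (e := 6) (by norm_num) hd
    · exact Or.inr (psl4 ho)
  · exact big_of_pow Fintype.isPrimePow_card_of_field (tri_le hn5) hd

theorem big_symp {F : Type} [Field F] [Fintype F] {m : ℕ} (hm : 2 ≤ m) (h3 : m = 2 → 3 ≤ Fintype.card F) :
    Big (PSp m F) := by
  have : Finite (PSp m F) := by unfold PSp; infer_instance
  have hd := Orders.psp_dvd (F := F) (m := m) (by omega)
  obtain rfl | hm3 : m = 2 ∨ 3 ≤ m := by omega
  · have h2 := h3 rfl
    rcases Nat.even_or_odd (Fintype.card F) with he | ho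
    · exact big_of_even Fintype.isPrimePow_card_of_field he (by omega) (e := 4) (by norm_num) hd
    · exact Or.inr (psp2 ho)
  · exact big_of_pow Fintype.isPrimePow_card_of_field (by nlinarith) hd

theorem unit_odd {q : ℕ} {F : Type} [Field F] [Fintype F] (hF : Fintype.card F = q ^ 2) : IsPrimePow q :=
  (isPrimePow_pow_iff (by norm_num)).1 (hF ▸ Fintype.isPrimePow_card_of_field)

theorem big_unit {F : Type} [Field F] [Fintype F] {n q : ℕ} (hF : Fintype.card F = q ^ 2) (hn : 3 ≤ n)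
    (h2 : ¬ (n = 3 ∧ q = 2)) (h3 : ¬ (n = 3 ∧ q = 3)) (h5 : ¬ (n = 3 ∧ q = 5)) :
    Big (PSU n F q) := by
  have : Finite (PSU n F q) := by unfold PSU; infer_instance
  have hqp := unit_odd hF
  have hq := hqp.one_lt
  have hd := Orders.psu_dvd (F := F) (n := n) hF (by omega)
  obtain rfl | rfl | hn5 : n = 3 ∨ n = 4 ∨ 5 ≤ n := by omega
  · rcases Nat.even_or_odd q with he | ho
    · exact big_of_even hqp he (by omega) (e := 3) (by norm_num) hd
    · refine Or.inl (PSLThree.psu3 hF ho ?_)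
      obtain ⟨k, hk⟩ := ho
      omega
  · rcases Nat.even_or_odd q with he | ho
    · exact big_of_even' he (e := 6) (by norm_num) hd
    · exact Or.inr (psu4 hF ho)
  · exact big_of_pow hqp (tri_le hn5) hd

theorem big_exc {G : Type u} [Group G] [Finite G] (h : IsExceptionalLieType G) : Big G := by
  have T' := OrdDiv.table.{u}
  rcases h with h | h | h | h | h | h | h | h | h | h | h
  · obtain ⟨F, i1, i2, h3, ⟨e⟩⟩ := h
    rcases Nat.even_or_odd (Fintype.card F) with he | ho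
    · refine big_of_even' he (e := 6) (by norm_num) ?_
      rw [Nat.card_congr e.toEquiv, T'.g2 F, mul_assoc]
      exact Dvd.intro _ rfl
    · right
      rw [Nat.card_congr e.toEquiv, T'.g2 F]
      have h6 : 8 ∣ Fintype.card F ^ 6 - 1 := by
        have := two_pow_sq (q := Fintype.card F ^ 3) ho.pow
        rwa [← pow_mul] at this
      have h5 := Nat.mul_dvd_mul (two_pow_sq ho) h6
      rw [mul_assoc]
      norm_num at h5 ⊢
      exact h5.mul_left _
  · obtain ⟨F, i1, i2, ⟨e⟩⟩ := h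
    refine big_of_pow (q := Fintype.card F) (e := 24) Fintype.isPrimePow_card_of_field (by norm_num) ?_
    rw [Nat.card_congr e.toEquiv, T'.f4 F _ rfl, mul_assoc, mul_assoc, mul_assoc]
    exact Dvd.intro _ rfl
  · obtain ⟨F, i1, i2, ⟨e⟩⟩ := h
    refine big_of_pow (q := Fintype.card F) (e := 36) Fintype.isPrimePow_card_of_field (by norm_num) ?_
    rw [Nat.card_congr e.toEquiv]
    have h0 := T'.e6 F _ rfl
    simp only [mul_assoc] at h0
    refine Orders.dvd_of ?_ h0 (Dvd.intro _ rfl)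
    have h1 := OrdDiv.cop_sub (q := Fintype.card F) (k := 1) Fintype.card_pos le_rfl
    rw [pow_one] at h1
    exact Nat.Coprime.coprime_dvd_left (Nat.gcd_dvd_right _ _) h1
  · obtain ⟨F, i1, i2, ⟨e⟩⟩ := h
    refine big_of_pow (q := Fintype.card F) (e := 63) Fintype.isPrimePow_card_of_field (by norm_num) ?_
    rw [Nat.card_congr e.toEquiv]
    have h0 := T'.e7 F _ rfl
    simp only [mul_assoc] at h0
    refine Orders.dvd_of ?_ h0 (Dvd.intro _ rfl)
    have h1 := OrdDiv.cop_sub (q := Fintype.card F) (k := 1) Fintype.card_pos le_rfl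
    rw [pow_one] at h1
    exact Nat.Coprime.coprime_dvd_left (Nat.gcd_dvd_right _ _) h1
  · obtain ⟨F, i1, i2, ⟨e⟩⟩ := h
    refine big_of_pow (q := Fintype.card F) (e := 120) Fintype.isPrimePow_card_of_field (by norm_num) ?_
    rw [Nat.card_congr e.toEquiv, T'.e8 F _ rfl]
    simp only [mul_assoc]
    exact Dvd.intro _ rfl
  · obtain ⟨K, i1, i2, q, hq, hK, ⟨e⟩⟩ := h
    refine big_of_pow (q := q) (e := 36) hq (by norm_num) ?_
    rw [Nat.card_congr e.toEquiv]
    have h0 := T'.te6 K q hq hK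
    simp only [mul_assoc] at h0
    refine Orders.dvd_of ?_ h0 (Dvd.intro _ rfl)
    have h1 := OrdDiv.cop_add (q := q) (k := 1) le_rfl
    rw [pow_one] at h1
    exact Nat.Coprime.coprime_dvd_left (Nat.gcd_dvd_right _ _) h1
  · obtain ⟨K, i1, i2, q, hq, hK, ⟨e⟩⟩ := h
    refine big_of_pow (q := q) (e := 12) hq (by norm_num) ?_
    rw [Nat.card_congr e.toEquiv, T'.td4 K q hq hK]
    simp only [mul_assoc]
    exact Dvd.intro _ rfl
  · obtain ⟨K, i1, i2, m, hm, hK, ⟨e⟩⟩ := h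
    right
    rw [Nat.card_congr e.toEquiv, T'.sz K m hm hK]
    rw [← pow_mul]
    simp only [mul_assoc]
    exact (pow_dvd_pow 2 (by omega)).mul_right _
  · obtain ⟨K, i1, i2, m, hm, hK, ⟨e⟩⟩ := h
    refine big_of_pow (q := 3) (e := (2 * m + 1) * 3) Nat.prime_three.isPrimePow (by omega) ?_
    rw [Nat.card_congr e.toEquiv, T'.ree K m hm hK]
    simp only [mul_assoc]
    rw [pow_mul]
    exact Dvd.intro _ rfl
  · obtain ⟨K, i1, i2, m, hm, hK, ⟨e⟩⟩ := h
    refine big_of_pow (q := 2) (e := (2 * m + 1) * 12) Nat.prime_two.isPrimePow (by omega) ?_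
    rw [Nat.card_congr e.toEquiv, T'.tf4 K m hm hK]
    simp only [mul_assoc]
    rw [pow_mul]
    exact Dvd.intro _ rfl
  · right
    rw [T'.spor G (.tits, 17971200) (by decide) h]
    decide

/-- a sporadic group of order divisible by `2 ^ 6` -/
theorem big_spor {G : Type u} [Group G] {x : OrdDiv.Grp × ℕ} (hx : x ∈ OrdDiv.spor) (h : OrdDiv.Real x.1 G)
    (h8 : x.2 % 2 ^ 6 = 0) : Big G := by
  refine Or.inr ?_
  rw [OrdDiv.table.spor G x hx h]
  exact Nat.dvd_of_mod_eq_zero h8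

theorem spor {G : Type u} [Group G] (h : IsSporadicGroup G) : Spor.IsoM11 G ∨ Spor.IsoJ1 G ∨ Big G := by
  rcases h with h | h | h | h | h | h | h | h | h | h | h | h | h | h | h | h | h | h | h | h | h | h | h | h | h | h
  · exact Or.inl h
  · exact Or.inr (Or.inr (big_spor (x := (.m12, 95040)) (by decide) h (by decide)))
  · exact Or.inr (Or.inr (big_spor (x := (.m22, 443520)) (by decide) h (by decide)))
  · exact Or.inr (Or.inr (big_spor (x := (.m23, 10200960)) (by decide) h (by decide)))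
  · exact Or.inr (Or.inr (big_spor (x := (.m24, 244823040)) (by decide) h (by decide)))
  · exact Or.inr (Or.inl h)
  · exact Or.inr (Or.inr (big_spor (x := (.j2, 604800)) (by decide) h (by decide)))
  · exact Or.inr (Or.inr (big_spor (x := (.j3, 50232960)) (by decide) h (by decide)))
  · exact Or.inr (Or.inr (big_spor (x := (.j4, 86775571046077562880)) (by decide) h (by decide)))
  · exact Or.inr (Or.inr (big_spor (x := (.co1, 4157776806543360000)) (by decide) h (by decide)))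
  · exact Or.inr (Or.inr (big_spor (x := (.co2, 42305421312000)) (by decide) h (by decide)))
  · exact Or.inr (Or.inr (big_spor (x := (.co3, 495766656000)) (by decide) h (by decide)))
  · exact Or.inr (Or.inr (big_spor (x := (.mcl, 898128000)) (by decide) h (by decide)))
  · exact Or.inr (Or.inr (big_spor (x := (.hs, 44352000)) (by decide) h (by decide)))
  · exact Or.inr (Or.inr (big_spor (x := (.suz, 448345497600)) (by decide) h (by decide)))
  · exact Or.inr (Or.inr (big_spor (x := (.he, 4030387200)) (by decide) h (by decide)))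
  · exact Or.inr (Or.inr (big_spor (x := (.ru, 145926144000)) (by decide) h (by decide)))
  · exact Or.inr (Or.inr (big_spor (x := (.on, 460815505920)) (by decide) h (by decide)))
  · exact Or.inr (Or.inr (big_spor (x := (.ly, 51765179004000000)) (by decide) h (by decide)))
  · exact Or.inr (Or.inr (big_spor (x := (.fi22, 64561751654400)) (by decide) h (by decide)))
  · exact Or.inr (Or.inr (big_spor (x := (.fi23, 4089470473293004800)) (by decide) h (by decide)))
  · exact Or.inr (Or.inr (big_spor (x := (.fi24, 1255205709190661721292800)) (by decide) h (by decide)))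
  · exact Or.inr (Or.inr (big_spor (x := (.hn, 273030912000000)) (by decide) h (by decide)))
  · exact Or.inr (Or.inr (big_spor (x := (.th, 90745943887872000)) (by decide) h (by decide)))
  · exact Or.inr (Or.inr (big_spor (x := (.b, 4154781481226426191177580544000000)) (by decide) h (by decide)))
  · exact Or.inr (Or.inr (big_spor
      (x := (.m, 808017424794512875886459904961710757005754368000000000)) (by decide) h (by decide)))

/-- the groups of the statement, or `Big` -/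
theorem main {G : Type u} [Group G] [Finite G] [IsSimpleGroup G] (hG : ¬ IsMulCommutative G) :
    (∃ (F : Type) (_ : Field F) (_ : Fintype F), Nonempty (G ≃* Matrix.ProjectiveSpecialLinearGroup (Fin 2) F)) ∨
      (∃ (F : Type) (_ : Field F) (_ : Fintype F), Fintype.card F = 9 ∧ Nonempty (G ≃* Cfsg.PSU 3 F 3)) ∨
      Nonempty (G ≃* ↥(alternatingGroup (Fin 7))) ∨ Cfsg.Spor.IsoM11 G ∨ Cfsg.Spor.IsoJ1 G ∨
      Nat.card G = 126000 ∨ Big G := by
  rcases Cfsg.Agent.S0000.result (G := G) with h | h | h | h | h | h | h | h | h | h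
  · exfalso
    apply hG
    have : Fact (Nat.Prime (Nat.card G)) := ⟨h⟩
    have : IsCyclic G := isCyclic_of_prime_card (p := Nat.card G) rfl
    exact IsCyclic.isMulCommutative
  · obtain ⟨n, hn, ⟨e⟩⟩ := h
    obtain rfl | rfl | rfl | hn8 : n = 5 ∨ n = 6 ∨ n = 7 ∨ 8 ≤ n := by omega
    · have : Fact (Nat.Prime 5) := ⟨by norm_num⟩
      obtain ⟨f⟩ := S0253.result (F := ZMod 5) (ZMod.card 5)
      exact Or.inl ⟨ZMod 5, inferInstance, inferInstance, ⟨e.trans f.symm⟩⟩
    · have : Fact (Nat.Prime 3) := ⟨Nat.prime_three⟩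
      have _ : Fintype (GaloisField 3 2) := Fintype.ofFinite _
      have hc : Fintype.card (GaloisField 3 2) = 9 := by
        rw [← Nat.card_eq_fintype_card, GaloisField.card 3 2 (by norm_num)]; norm_num
      obtain ⟨f⟩ := S0254.result (F := GaloisField 3 2) hc
      exact Or.inl ⟨GaloisField 3 2, inferInstance, inferInstance, ⟨e.trans f.symm⟩⟩
    · exact Or.inr (Or.inr (Or.inl ⟨e⟩))
    · refine Or.inr (Or.inr (Or.inr (Or.inr (Or.inr (Or.inr (Or.inr ?_))))))
      rw [Nat.card_congr e.toEquiv]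
      have h1 : 2 ^ 6 ∣ Nat.card (alternatingGroup (Fin 8)) := by rw [Alt.card_eight]; decide
      obtain ⟨f, hf⟩ := Alt.exists_inj hn8
      exact h1.trans (Subgroup.card_dvd_of_injective f hf)
  · obtain ⟨F, i1, i2, n, hn, h4, ⟨e⟩⟩ := h
    obtain rfl | hn3 : n = 2 ∨ 3 ≤ n := by omega
    · exact Or.inl ⟨F, i1, i2, ⟨e⟩⟩
    · by_cases h3 : n = 3 ∧ Fintype.card F = 2
      · obtain ⟨rfl, h2⟩ := h3
        have : Fact (Nat.Prime 7) := ⟨by norm_num⟩
        obtain ⟨f⟩ := S0255.result (F := ZMod 7) (K := F) (ZMod.card 7) h2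
        exact Or.inl ⟨ZMod 7, inferInstance, inferInstance, ⟨e.trans f.symm⟩⟩
      · refine Or.inr (Or.inr (Or.inr (Or.inr (Or.inr (Or.inr ?_)))))
        exact (big_lin hn3 (fun h h2 => h3 ⟨h, h2⟩)).of_equiv e.symm
  · obtain ⟨F, i1, i2, m, hm, h3, ⟨e⟩⟩ := h
    refine Or.inr (Or.inr (Or.inr (Or.inr (Or.inr (Or.inr ?_)))))
    exact (big_symp hm h3).of_equiv e.symm
  · obtain ⟨F, i1, i2, n, q, hF, hn, hn2, ⟨e⟩⟩ := h
    by_cases h3 : n = 3 ∧ q = 3
    · obtain ⟨rfl, rfl⟩ := h3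
      exact Or.inr (Or.inl ⟨F, i1, i2, by rw [hF]; norm_num, ⟨e⟩⟩)
    · by_cases h5 : n = 3 ∧ q = 5
      · obtain ⟨rfl, rfl⟩ := h5
        refine Or.inr (Or.inr (Or.inr (Or.inr (Or.inr (Or.inl ?_)))))
        rw [Nat.card_congr e.toEquiv]
        exact psu35 hF
      · refine Or.inr (Or.inr (Or.inr (Or.inr (Or.inr (Or.inr ?_)))))
        exact (big_unit hF hn hn2 h3 h5).of_equiv e.symm
  · obtain ⟨F, i1, i2, m, hm, hF, ⟨e⟩⟩ := h
    refine Or.inr (Or.inr (Or.inr (Or.inr (Or.inr (Or.inr ?_)))))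
    refine big_of_pow (q := Fintype.card F) Fintype.isPrimePow_card_of_field (e := m ^ 2) (by nlinarith) ?_
    rw [Nat.card_congr e.toEquiv]
    exact Orders.oodd_dvd hm hF
  · obtain ⟨F, i1, i2, m, hm, ⟨e⟩⟩ := h
    refine Or.inr (Or.inr (Or.inr (Or.inr (Or.inr (Or.inr ?_)))))
    have hmm : 4 * 3 ≤ m * (m - 1) := Nat.mul_le_mul hm (by omega)
    refine big_of_pow (q := Fintype.card F) Fintype.isPrimePow_card_of_field (e := m * (m - 1)) (by omega) ?_
    rw [Nat.card_congr e.toEquiv]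
    exact Orders.oplus_dvd hm
  · obtain ⟨F, i1, i2, m, a, b, hm, hab, ⟨e⟩⟩ := h
    refine Or.inr (Or.inr (Or.inr (Or.inr (Or.inr (Or.inr ?_)))))
    have hmm : 4 * 3 ≤ m * (m - 1) := Nat.mul_le_mul hm (by omega)
    refine big_of_pow (q := Fintype.card F) Fintype.isPrimePow_card_of_field (e := m * (m - 1)) (by omega) ?_
    rw [Nat.card_congr e.toEquiv]
    exact Orders.ominus_dvd hm hab
  · exact Or.inr (Or.inr (Or.inr (Or.inr (Or.inr (Or.inr (big_exc h))))))
  · rcases spor h with h | h | h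
    · exact Or.inr (Or.inr (Or.inr (Or.inl h)))
    · exact Or.inr (Or.inr (Or.inr (Or.inr (Or.inl h))))
    · exact Or.inr (Or.inr (Or.inr (Or.inr (Or.inr (Or.inr h)))))

end Cfsg.Agent.H321.Seven
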